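import Groth.Agent.L08.AffHull.FiniteType
import Groth.Agent.L25.GrpDeriv

/-!
# Anti-affine groups are smooth and connected
-/

set_option autoImplicit false
set_option backward.isDefEq.respectTransparency.types false
set_option linter.style.haveILetI false

universe u

open CategoryTheory CategoryTheory.Limits MonoidalCategory CartesianMonoidalCategory MonObj AlgebraicGeometry

noncomputable section

namespace Groth.L08.AffHull

variable {k : Type u} [Field k]

/-- A homomorphism from an anti-affine group to an affine group is trivial. -/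
theorem hom_eq_one {N Q : Over (Spec (CommRingCat.of k))} [GrpObj N] [GrpObj Q] [LocallyOfFiniteType N.hom]
    [QuasiCompact N.hom] [IsAffine Q.left] (hO : IsIso N.hom.appTop) (f : N ⟶ Q) [IsMonHom f] : f = 1 := by
  haveI := compactSpace (G := N)
  haveI := quasiSeparatedSpace (G := N)
  obtain ⟨g, _, hg⟩ := exists_hom N f
  haveI := hO
  haveI hh : IsIso (hull N).hom :=
    inferInstanceAs (IsIso (Spec.map N.hom.appTop ≫ (Spec (CommRingCat.of k)).isoSpec.inv))
  haveI : IsIso (toUnit (hull N)).left := by
    have e : (toUnit (hull N)).left = (hull N).hom :=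
      (Category.comp_id _).symm.trans (Over.w (toUnit (hull N)))
    rw [e]; exact hh
  haveI : IsIso (toUnit (hull N)) := by
    haveI : IsIso ((Over.forget _).map (toUnit (hull N))) :=
      inferInstanceAs (IsIso (toUnit (hull N)).left)
    exact isIso_of_reflects_iso (toUnit (hull N)) (Over.forget _)
  have h1 : η[hull N] ≫ toUnit (hull N) = 𝟙 _ := toUnit_unique _ _
  have h2 : toUnit (hull N) ≫ η[hull N] = 𝟙 _ := by
    rw [← cancel_mono (toUnit (hull N)), Category.assoc, h1, Category.comp_id, Category.id_comp]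
  have hg1 : g = 1 := by
    rw [← Category.id_comp g, ← h2, Category.assoc, IsMonHom.one_hom, Hom.one_def]
  rw [← hg, hg1, MonObj.comp_one]

theorem isAffine_of_subsingleton {X : Scheme.{u}} [Subsingleton X] [Nonempty X] : IsAffine X := by
  obtain ⟨x⟩ := ‹Nonempty X›
  obtain ⟨U, hU, hxU, -⟩ := exists_isAffineOpen_mem_and_subset (x := x) (U := ⊤) trivial
  have : U = ⊤ := top_unique fun y _ => by rwa [Subsingleton.elim y x]
  rw [this] at hU
  haveI : IsAffine (⊤ : X.Opens).toScheme := hU
  exact IsAffine.of_isIso X.topIso.inv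

theorem isReduced_of_antiAffine [IsAlgClosed k] (N : Over (Spec (CommRingCat.of k))) [GrpObj N]
    [LocallyOfFiniteType N.hom] [QuasiCompact N.hom] (hO : IsIso N.hom.appTop) : IsReduced N.left := by
  obtain ⟨Nr, gNr, j, _, hred, _, hrange⟩ := MonoClosed.exists_reduced_subgroup (G := N) Set.univ isClosed_univ
    trivial (fun _ _ _ => trivial) (fun _ _ => trivial)
  haveI : Surjective j.left := ⟨Set.range_eq_univ.1 hrange⟩
  haveI : Mono j := Over.mono_of_mono_left j
  haveI : LocallyOfFiniteType Nr.hom := by rw [← Over.w j]; infer_instance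
  obtain ⟨Y, p, _, _, _, sqp⟩ := GQuot.exists_quotient_field j
  obtain ⟨X, q, _, _, _, sqq, hlft, -, -, -, -⟩ := GQuot.exists_struct p sqp
  -- the quotient is a single rational point
  have hjq : j ≫ q = toUnit Nr ≫ η[N] ≫ q := by
    have := CartesianMonoidalCategory.lift (𝟙 Nr) (toUnit Nr ≫ η[N]) ≫= sqq.w
    simp only [lift_whiskerRight_assoc, Category.assoc, lift_snd_assoc, Category.id_comp] at this
    rw [← this, ← Category.assoc _ μ, ← Hom.mul_def, ← Hom.one_def, _root_.mul_one]
  haveI : Subsingleton X.left := by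
    refine ⟨fun a b => ?_⟩
    have key : ∀ a : X.left, a = (η[N] ≫ q).left (IsLocalRing.closedPoint k) := fun a => by
      obtain ⟨b, rfl⟩ := q.left.surjective a
      obtain ⟨c, rfl⟩ := j.left.surjective b
      rw [← Scheme.Hom.comp_apply, ← Over.comp_left, hjq, Over.comp_left, Scheme.Hom.comp_apply]
      congr 1
      exact Subsingleton.elim (α := PrimeSpectrum k) _ _
    rw [key a, key b]
  haveI : Nonempty X.left := ⟨(η[N] ≫ q).left (IsLocalRing.closedPoint k)⟩
  haveI : IsAffine X.left := isAffine_of_subsingleton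
  haveI := compactSpace (G := N)
  haveI := quasiSeparatedSpace (G := N)
  obtain ⟨g, hg⟩ := desc_one N q
  haveI := hO
  haveI hh : IsIso (hull N).hom :=
    inferInstanceAs (IsIso (Spec.map N.hom.appTop ≫ (Spec (CommRingCat.of k)).isoSpec.inv))
  have hq : q = toUnit N ≫ η[N] ≫ q := by
    rw [← hg, ← Category.assoc η[N], ← Category.assoc]
    congr 1
    refine Over.OverMorphism.ext ((cancel_mono (hull N).hom).1 ?_)
    rw [Over.w, Over.w]
  obtain ⟨s, hs1, hs2⟩ := sqq.exists_lift (𝟙 N) (toUnit N ≫ η[N]) (by rw [Category.id_comp, Category.assoc, ← hq])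
  have hs : (s ≫ fst Nr N) ≫ j = 𝟙 N := by
    have e : (s ≫ fst Nr N) ≫ j = ((s ≫ fst Nr N) ≫ j) * (toUnit N ≫ η[N]) := by
      rw [← Hom.one_def, _root_.mul_one]
    rw [e, ← hs2]
    conv_rhs => rw [← hs1, ← GQuot.tO_eq, GQuot.tO, MonObj.comp_mul]
    simp only [Category.assoc]
  haveI : IsIso j := ⟨s ≫ fst Nr N, by rw [← cancel_mono j, Category.assoc, hs, Category.comp_id, Category.id_comp], hs⟩
  haveI : IsIso j.left := inferInstanceAs (IsIso ((Over.forget _).map j))
  haveI := hred
  exact isReduced_of_isOpenImmersion (inv j.left)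

/-- Anti-affine groups are smooth. -/
theorem smooth_of_antiAffine (N : Over (Spec (CommRingCat.of k))) [GrpObj N]
    [LocallyOfFiniteType N.hom] [QuasiCompact N.hom] (hO : IsIso N.hom.appTop) : Smooth N.hom := by
  haveI : GrpObj (Over.mk N.hom) := ‹GrpObj N›
  refine Groth.L25.GrpDeriv.smooth_of_isReduced_baseChange N.hom ?_
  intro _
  let θ : Spec (CommRingCat.of (AlgebraicClosure k)) ⟶ Spec (CommRingCat.of k) :=
    Spec.map (CommRingCat.ofHom (algebraMap k (AlgebraicClosure k)))
  let N' : Over (Spec (CommRingCat.of (AlgebraicClosure k))) := Red.bc θ N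
  haveI : LocallyOfFiniteType N'.hom := MorphismProperty.pullback_snd (P := @LocallyOfFiniteType) _ _ ‹_›
  haveI : QuasiCompact N'.hom := MorphismProperty.pullback_snd (P := @QuasiCompact) _ _ ‹_›
  haveI := compactSpace (G := N)
  haveI := quasiSeparatedSpace (G := N)
  have hp := Groth.L22.AffDesc.isPushout_appTop (IsPullback.of_hasPullback N.hom θ)
  haveI := hO
  haveI : IsIso N'.hom.appTop := by
    show IsIso (pullback.snd N.hom θ).appTop
    exact hp.isIso_inr_of_isIso
  exact isReduced_of_antiAffine N' inferInstance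

/-- Anti-affine groups are connected. -/
theorem connectedSpace_of_antiAffine (N : Over (Spec (CommRingCat.of k))) [GrpObj N]
    (hO : IsIso N.hom.appTop) : ConnectedSpace N.left := by
  haveI : Nonempty N.left := ⟨η[N].left (IsLocalRing.closedPoint k)⟩
  haveI := hO
  let e : k ≃+* Γ(N.left, ⊤) :=
    ((Scheme.ΓSpecIso (CommRingCat.of k)).symm ≪≫ asIso N.hom.appTop).commRingCatIsoToRingEquiv
  haveI : IsDomain Γ(N.left, ⊤) := e.symm.injective.isDomain e.symm.toRingHom
  rw [connectedSpace_iff_clopen]
  refine ⟨inferInstance, fun s hs => ?_⟩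
  let U : N.left.Opens := ⟨s, hs.2⟩
  let V : N.left.Opens := ⟨sᶜ, hs.1.isOpen_compl⟩
  have hUV : U ⊓ V = ⊥ := TopologicalSpace.Opens.ext (Set.inter_compl_self s)
  by_contra hne
  push Not at hne
  obtain ⟨a, ha⟩ := hne.1
  obtain ⟨b, hb⟩ := (Set.ne_univ_iff_exists_notMem s).1 hne.2
  obtain ⟨f, hf, -⟩ := N.left.sheaf.existsUnique_gluing' (fun i : Bool => cond i U V) ⊤ (fun i => homOfLE le_top)
    (fun x _ => by
      by_cases hx : x ∈ s
      · exact TopologicalSpace.Opens.mem_iSup.2 ⟨true, hx⟩
      · exact TopologicalSpace.Opens.mem_iSup.2 ⟨false, hx⟩)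
    (fun i => cond i 1 0) (fun i j => by
      rcases i with _ | _ <;> rcases j with _ | _
      · rfl
      · haveI : Subsingleton Γ(N.left, V ⊓ U) := by rw [inf_comm, hUV]; infer_instance
        exact Subsingleton.elim (α := Γ(N.left, V ⊓ U)) _ _
      · haveI : Subsingleton Γ(N.left, U ⊓ V) := by rw [hUV]; infer_instance
        exact Subsingleton.elim (α := Γ(N.left, U ⊓ V)) _ _
      · rfl)
  by_cases h0 : f = 0
  · have := hf true
    rw [h0, map_zero] at this
    haveI : Subsingleton Γ(N.left, U) := subsingleton_of_zero_eq_one this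
    haveI : Nonempty U := ⟨⟨a, ha⟩⟩
    exact false_of_nontrivial_of_subsingleton Γ(N.left, U)
  · have hidem : f * f = f := by
      refine N.left.sheaf.eq_of_locally_eq' (fun i : Bool => cond i U V) ⊤ (fun i => homOfLE le_top) ?_ _ _ fun i => ?_
      · intro x _
        by_cases hx : x ∈ s
        · exact TopologicalSpace.Opens.mem_iSup.2 ⟨true, hx⟩
        · exact TopologicalSpace.Opens.mem_iSup.2 ⟨false, hx⟩
      · rw [map_mul, hf i]
        cases i <;> simp
    have h1 : f = 1 := @mul_right_cancel₀ Γ(N.left, ⊤) _ _ _ _ _ _ h0 (hidem.trans (_root_.one_mul f).symm)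
    have := hf false
    rw [h1, map_one] at this
    haveI : Subsingleton Γ(N.left, V) := subsingleton_of_zero_eq_one this.symm
    haveI : Nonempty V := ⟨⟨b, hb⟩⟩
    exact false_of_nontrivial_of_subsingleton Γ(N.left, V)

end Groth.L08.AffHull
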