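import Groth.Agent.L08.AffHull.Smooth

/-!
# The kernel of the morphism to the affine hull is anti-affine
-/

set_option autoImplicit false
set_option backward.isDefEq.respectTransparency.types false
set_option linter.style.haveILetI false

universe u

open CategoryTheory CategoryTheory.Limits MonoidalCategory CartesianMonoidalCategory MonObj AlgebraicGeometry

noncomputable section

namespace Groth.L08.AffHull

section Covers

variable {S : Scheme.{u}}

/-- Morphisms out of an effective quotient. -/
theorem exists_desc_cover {A B Z : Over S} (c : A ⟶ B) [Surjective c.left] [Flat c.left]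
    [LocallyOfFinitePresentation c.left] (f : A ⟶ Z)
    (hf : ∀ {T : Over S} (a b : T ⟶ A), a ≫ c = b ≫ c → a ≫ f = b ≫ f) : ∃ g : B ⟶ Z, c ≫ g = f := by
  haveI : EffectiveEpi c.left := inferInstance
  have hf' : ∀ {T : Scheme.{u}} (a b : T ⟶ A.left), a ≫ c.left = b ≫ c.left → a ≫ f.left = b ≫ f.left := by
    intro T a b e
    let a' : Over.mk (a ≫ A.hom) ⟶ A := Over.homMk a
    let b' : Over.mk (a ≫ A.hom) ⟶ A := Over.homMk b (by
      show b ≫ A.hom = a ≫ A.hom
      rw [← Over.w c, reassoc_of% e])
    exact congrArg CommaMorphism.left (hf a' b' (Over.OverMorphism.ext e))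
  let d := EffectiveEpi.desc c.left f.left fun {T} a b e => hf' a b e
  have hd : c.left ≫ d = f.left := EffectiveEpi.fac _ _ _
  have hw : d ≫ Z.hom = B.hom := by
    rw [← cancel_epi c.left, reassoc_of% hd, Over.w, Over.w]
  exact ⟨Over.homMk d hw, Over.OverMorphism.ext hd⟩

/-- Two quotients with the same relation are isomorphic. -/
theorem exists_iso_of_covers {A B₁ B₂ : Over S} (c₁ : A ⟶ B₁) (c₂ : A ⟶ B₂)
    [Surjective c₁.left] [Flat c₁.left] [LocallyOfFinitePresentation c₁.left]
    [Surjective c₂.left] [Flat c₂.left] [LocallyOfFinitePresentation c₂.left]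
    (h : ∀ {T : Over S} (a b : T ⟶ A), a ≫ c₁ = b ≫ c₁ ↔ a ≫ c₂ = b ≫ c₂) :
    ∃ e : B₁ ≅ B₂, c₁ ≫ e.hom = c₂ := by
  obtain ⟨f, hf⟩ := exists_desc_cover c₁ c₂ fun a b e => (h a b).1 e
  obtain ⟨g, hg⟩ := exists_desc_cover c₂ c₁ fun a b e => (h a b).2 e
  haveI : Epi c₁ := GQuot.epi_of_cover _
  haveI : Epi c₂ := GQuot.epi_of_cover _
  exact ⟨⟨f, g, by rw [← cancel_epi c₁, reassoc_of% hf, hg, Category.comp_id],
    by rw [← cancel_epi c₂, reassoc_of% hg, hf, Category.comp_id]⟩, hf⟩

end Covers

variable {k : Type u} [Field k] {G : Over (Spec (CommRingCat.of k))} [GrpObj G]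
  [LocallyOfFiniteType G.hom] [QuasiCompact G.hom] [CompactSpace G.left] [QuasiSeparatedSpace G.left]

/-- The kernel of `G → Spec O(G)` has only constant functions. -/
theorem isIso_appTop_kernel {K : Over (Spec (CommRingCat.of k))} [GrpObj K] (i : K ⟶ G) [IsMonHom i]
    [IsClosedImmersion i.left] (sq : AlgGrp.IsKernel i (rho G)) : IsIso K.hom.appTop := by
  haveI : LocallyOfFiniteType K.hom := by rw [← Over.w i]; infer_instance
  haveI : QuasiCompact K.hom := by rw [← Over.w i]; infer_instance
  haveI : Mono i := Over.mono_of_mono_left i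
  haveI := compactSpace (G := K)
  haveI := quasiSeparatedSpace (G := K)
  obtain ⟨hlftG, hsG, hfG, hpG⟩ := hull_props (G := G)
  obtain ⟨hlftK, hsK, hfK, hpK⟩ := hull_props (G := K)
  obtain ⟨N, gN, i₁, _, _, -, sq₁⟩ := AbelianGrp.exists_kernel (rho K)
  haveI : Mono i₁ := Over.mono_of_mono_left i₁
  let j : N ⟶ G := i₁ ≫ i
  haveI : IsMonHom j := inferInstanceAs (IsMonHom (i₁ ≫ i))
  haveI : IsClosedImmersion j.left := inferInstanceAs (IsClosedImmersion (i₁.left ≫ i.left))
  haveI : Mono j := Over.mono_of_mono_left j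
  haveI : LocallyOfFiniteType N.hom := by rw [← Over.w i₁]; infer_instance
  obtain ⟨Y, p, _, _, _, sqp⟩ := GQuot.exists_quotient_field j
  obtain ⟨X, q, hsq, hfq, hpq, sqq, -, -, -, -, -⟩ := GQuot.exists_struct p sqp
  have hk : i ≫ rho G = 1 := sq.w.trans (Hom.one_def).symm
  have hk₁ : i₁ ≫ rho K = 1 := sq₁.w.trans (Hom.one_def).symm
  have rel : ∀ {T : Over (Spec (CommRingCat.of k))} (a b : T ⟶ G),
      a ≫ q = b ≫ q ↔ ∃ f : T ⟶ N, a = (f ≫ j) * b := fun {T} a b => by
    constructor
    · intro e
      obtain ⟨r, r1, r2⟩ := sqq.exists_lift a b e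
      refine ⟨r ≫ fst N G, ?_⟩
      rw [← r1, ← r2, ← GQuot.tO_eq, GQuot.tO, MonObj.comp_mul, Category.assoc]
    · rintro ⟨f, rfl⟩
      have h1 : CartesianMonoidalCategory.lift f b ≫ ((j ▷ G) ≫ μ[G]) = (f ≫ j) * b := by
        rw [← GQuot.tO_eq, GQuot.tO, MonObj.comp_mul, lift_fst_assoc, lift_snd]
      rw [← h1, Category.assoc, sqq.w, lift_snd_assoc]
  obtain ⟨π, hπ⟩ := exists_desc_cover q (rho G) fun a b e => by
    obtain ⟨f, rfl⟩ := (rel a b).1 e
    rw [MonObj.mul_comp, Category.assoc, Category.assoc, hk, MonObj.comp_one, MonObj.comp_one, _root_.one_mul]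
  -- the base change of `π` along the cover is a product with an affine group
  let P := pullback π (rho G)
  let t : K ⊗ G ⟶ G := (fst K G ≫ i) * snd K G
  have ht : t ≫ rho G = snd K G ≫ rho G := by
    rw [MonObj.mul_comp, Category.assoc, hk, MonObj.comp_one, _root_.one_mul]
  let c₂ : K ⊗ G ⟶ P := pullback.lift (t ≫ q) (snd K G) (by rw [Category.assoc, hπ, ht])
  have hc₁ : c₂ ≫ pullback.fst π (rho G) = t ≫ q := pullback.lift_fst _ _ _
  have hc₂ : c₂ ≫ pullback.snd π (rho G) = snd K G := pullback.lift_snd _ _ _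
  have sqE : IsPullback t c₂ q (pullback.fst π (rho G)) := by
    refine IsPullback.mk' (pullback.lift_fst _ _ _).symm (fun T a b e1 e2 => ?_) (fun T a b e => ?_)
    · have e3 : a ≫ snd K G = b ≫ snd K G := by
        have := e2 =≫ pullback.snd π (rho G)
        simpa only [Category.assoc, hc₂] using this
      refine CartesianMonoidalCategory.hom_ext _ _ ?_ e3
      simp only [t, MonObj.comp_mul, e3, mul_left_inj] at e1
      rw [← Category.assoc, ← Category.assoc, cancel_mono] at e1
      exact e1
    · let g := b ≫ pullback.snd π (rho G)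
      obtain ⟨f, hf, -⟩ := sq.exists_lift (a * g⁻¹) (toUnit T) (by
        have e2 : a ≫ rho G = g ≫ rho G :=
          calc a ≫ rho G = (a ≫ q) ≫ π := by rw [Category.assoc, hπ]
            _ = b ≫ pullback.fst π (rho G) ≫ π := by rw [e, Category.assoc]
            _ = g ≫ rho G := by rw [pullback.condition, Category.assoc]
        rw [MonObj.mul_comp, GrpObj.inv_comp, e2, mul_inv_cancel, Hom.one_def])
      have hl : CartesianMonoidalCategory.lift f g ≫ t = a := by
        simp only [t, MonObj.comp_mul, lift_fst_assoc, lift_snd, hf, inv_mul_cancel_right]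
      refine ⟨CartesianMonoidalCategory.lift f g, hl, ?_⟩
      apply pullback.hom_ext
      · simp only [Category.assoc, hc₁, reassoc_of% hl, e]
      · simp only [Category.assoc, hc₂, lift_snd, g]
  have hE := (sqE.map (Over.forget _)).flip.flip
  haveI : Surjective c₂.left := MorphismProperty.of_isPullback (P := @Surjective) hE hsq
  haveI : Flat c₂.left := MorphismProperty.of_isPullback (P := @Flat) hE hfq
  haveI : LocallyOfFinitePresentation c₂.left :=
    MorphismProperty.of_isPullback (P := @LocallyOfFinitePresentation) hE hpq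
  obtain ⟨⟨_, _, _⟩, -⟩ := GQuot.cover_tensor (rho K) G
  obtain ⟨e, he⟩ := exists_iso_of_covers (rho K ▷ G) c₂ fun {T} a b => by
    constructor
    · intro e
      have e1 := e =≫ fst (hull K) G
      have e2 := e =≫ snd (hull K) G
      simp only [Category.assoc, whiskerRight_fst, whiskerRight_snd] at e1 e2
      rw [← Category.assoc, ← Category.assoc] at e1
      obtain ⟨f, hf, -⟩ := sq₁.exists_lift ((a ≫ fst K G) * (b ≫ fst K G)⁻¹) (toUnit T)
        (by rw [MonObj.mul_comp, GrpObj.inv_comp, e1, mul_inv_cancel, Hom.one_def])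
      apply pullback.hom_ext
      · simp only [Category.assoc, hc₁]
        rw [← Category.assoc, ← Category.assoc, rel]
        refine ⟨f, ?_⟩
        have hf' : f ≫ j = ((a ≫ fst K G) ≫ i) * ((b ≫ fst K G) ≫ i)⁻¹ := by
          rw [show j = i₁ ≫ i from rfl, ← Category.assoc, hf, MonObj.mul_comp, GrpObj.inv_comp]
        simp only [t, MonObj.comp_mul, hf', e2, Category.assoc]
        group
      · simpa only [Category.assoc, hc₂] using e2
    · intro e
      have e2 : a ≫ snd K G = b ≫ snd K G := by simpa only [Category.assoc, hc₂] using e =≫ pullback.snd π (rho G)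
      have e1 := e =≫ pullback.fst π (rho G)
      simp only [Category.assoc, hc₁] at e1
      rw [← Category.assoc, ← Category.assoc, rel] at e1
      obtain ⟨f, hf⟩ := e1
      simp only [t, MonObj.comp_mul, e2] at hf
      rw [← _root_.mul_assoc, mul_left_inj, show j = i₁ ≫ i from rfl] at hf
      have hf' : a ≫ fst K G = (f ≫ i₁) * (b ≫ fst K G) := by
        rw [← cancel_mono i, MonObj.mul_comp]
        simpa only [Category.assoc] using hf
      refine CartesianMonoidalCategory.hom_ext _ _ ?_ (by simpa using e2)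
      simp only [Category.assoc, whiskerRight_fst]
      rw [← Category.assoc, hf', MonObj.mul_comp, Category.assoc, hk₁, MonObj.comp_one, _root_.one_mul,
        Category.assoc]
  have hsnd : e.hom ≫ pullback.snd π (rho G) = snd (hull K) G := by
    haveI : Epi (rho K ▷ G) := GQuot.epi_of_cover _
    rw [← cancel_epi (rho K ▷ G), reassoc_of% he, whiskerRight_snd]
    exact hc₂
  haveI : IsAffineHom (hull K).hom := inferInstance
  haveI : IsAffineHom (snd (hull K) G).left :=
    MorphismProperty.pullback_snd (P := @IsAffineHom) (hull K).hom G.hom ‹IsAffineHom (hull K).hom›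
  haveI : IsAffineHom (pullback.snd π (rho G)).left := by
    haveI : IsIso e.inv.left := inferInstanceAs (IsIso ((Over.forget _).map e.inv))
    rw [← (Iso.inv_comp_eq e).2 hsnd.symm, Over.comp_left]
    infer_instance
  haveI : QuasiCompact (rho G).left := AbelianGrp.quasiCompact_left (rho G)
  haveI : IsAffineHom π.left :=
    MorphismProperty.of_isPullback_of_descendsAlong (P := @IsAffineHom)
      (Q := @Surjective ⊓ @Flat ⊓ @QuasiCompact)
      ((IsPullback.of_hasPullback π (rho G)).map (Over.forget _)).flip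
      ⟨⟨hsG, hfG⟩, ‹QuasiCompact (rho G).left›⟩ ‹IsAffineHom (pullback.snd π (rho G)).left›
  haveI : IsAffine X.left := isAffine_of_isAffineHom π.left
  obtain ⟨g, hg⟩ := desc_one G q
  have hiq : i ≫ q = (1 : K ⟶ G) ≫ q := by
    rw [← hg, ← Category.assoc, hk, ← Category.assoc, MonObj.one_comp (rho G)]
  obtain ⟨f, hf⟩ := (rel i 1).1 hiq
  rw [_root_.mul_one, show j = i₁ ≫ i from rfl, ← Category.assoc] at hf
  have hf' : f ≫ i₁ = 𝟙 K := by rw [← cancel_mono i, Category.id_comp]; exact hf.symm
  have hρ : rho K = 1 := by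
    rw [← Category.id_comp (rho K), ← hf', Category.assoc, hk₁, MonObj.comp_one]
  have hid : 𝟙 (hull K) = toUnit (hull K) ≫ η[hull K] := by
    refine ext_one K ?_
    rw [Category.comp_id, ← Category.assoc, toUnit_unique (rho K ≫ toUnit (hull K)) (toUnit K), hρ, Hom.one_def]
  haveI : IsIso (toUnit (hull K)) := ⟨η[hull K], hid.symm, toUnit_unique _ _⟩
  haveI : IsIso (hull K).hom := by
    have e : (toUnit (hull K)).left = (hull K).hom :=
      (Category.comp_id _).symm.trans (Over.w (toUnit (hull K)))
    exact e ▸ inferInstanceAs (IsIso ((Over.forget _).map (toUnit (hull K))))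
  haveI : IsIso (Spec.map K.hom.appTop) :=
    @IsIso.of_isIso_comp_right _ _ _ _ _ (Spec.map K.hom.appTop) (Spec (CommRingCat.of k)).isoSpec.inv _
      ‹IsIso (hull K).hom›
  obtain ⟨g', hg1, hg2⟩ := this
  obtain ⟨g'', rfl⟩ := Spec.map_surjective g'
  exact ⟨g'', Spec.map_injective (by rw [Spec.map_comp, hg2, Spec.map_id]),
    Spec.map_injective (by rw [Spec.map_comp, hg1, Spec.map_id])⟩

end Groth.L08.AffHull
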