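import Groth.Agent.L08.AffHull.Group
import Groth.Agent.L08.NormalQuot.Affine

/-!
# The affine hull of an algebraic group is algebraic
-/

set_option autoImplicit false
set_option backward.isDefEq.respectTransparency.types false
set_option linter.style.haveILetI false

universe u

open CategoryTheory CategoryTheory.Limits MonoidalCategory CartesianMonoidalCategory MonObj AlgebraicGeometry
open TensorProduct WithConv TopologicalSpace

noncomputable section

namespace Groth.L08.AffHull

open Groth.L08.HomSpace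

variable {k : Type u} [Field k]

theorem injective_appTop_specMap {R T : CommRingCat.{u}} (f : R ⟶ T) (hf : Function.Injective f.hom) :
    Function.Injective (Spec.map f).appTop := by
  have e : (Spec.map f).appTop = (Scheme.ΓSpecIso R).hom ≫ f ≫ (Scheme.ΓSpecIso T).inv := by
    rw [← Category.assoc, Iso.eq_comp_inv, Scheme.ΓSpecIso_naturality]
  rw [e]
  exact ((Scheme.ΓSpecIso T).commRingCatIsoToRingEquiv.symm.injective.comp hf).comp
    (Scheme.ΓSpecIso R).commRingCatIsoToRingEquiv.injective

/-- The morphism to the quotient group defined by a subalgebra. -/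
abbrev sub {H : Type u} [CommRing H] [HopfAlgebra k H] (B : Subalgebra k H) : specOf k H ⟶ specOf k B :=
  Over.homMk (Spec.map (CommRingCat.ofHom B.val.toRingHom)) (by
    show Spec.map _ ≫ Spec.map _ = Spec.map _
    rw [← Spec.map_comp]
    rfl)

/-- The morphism between quotient groups defined by subalgebras. -/
abbrev incl {H : Type u} [CommRing H] [HopfAlgebra k H] {B B' : Subalgebra k H} (h : B ≤ B') :
    specOf k B' ⟶ specOf k B :=
  Over.homMk (Spec.map (CommRingCat.ofHom (Subalgebra.inclusion h).toRingHom)) (by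
    show Spec.map _ ≫ Spec.map _ = Spec.map _
    rw [← Spec.map_comp]
    rfl)

theorem sub_incl {H : Type u} [CommRing H] [HopfAlgebra k H] {B B' : Subalgebra k H} (h : B ≤ B') :
    sub B' ≫ incl h = sub B := by
  refine Over.OverMorphism.ext ?_
  show Spec.map _ ≫ Spec.map _ = Spec.map _
  rw [← Spec.map_comp]
  rfl

variable {G : Over (Spec (CommRingCat.of k))} [GrpObj G] [LocallyOfFiniteType G.hom] [QuasiCompact G.hom]

theorem compactSpace : CompactSpace G.left :=
  (quasiCompact_iff_compactSpace (f := G.hom)).1 inferInstance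

theorem quasiSeparatedSpace : QuasiSeparatedSpace G.left := by
  haveI := AbelianGrp.isSeparated G
  exact quasiSeparatedSpace_of_quasiSeparated G.hom

section Stage

variable {H : Type u} [CommRing H] [HopfAlgebra k H] (r : G ⟶ specOf k H) [IsMonHom r] [IsIso r.left.appTop]

/-- A stage: a finitely generated Hopf subalgebra with the induced homomorphism. -/
theorem stage_props (B : Subalgebra k H) (hfg : B.FG) (hB : SGA3.IsHopfSubalgebra k H B) :
    letI := Groth.L25.HopfSub.hopfAlgebra hB
    IsMonHom (r ≫ sub B) ∧ LocallyOfFiniteType (specOf k B).hom ∧ Surjective (r ≫ sub B).left ∧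
      Flat (r ≫ sub B).left ∧ LocallyOfFinitePresentation (r ≫ sub B).left := by
  letI := Groth.L25.HopfSub.hopfAlgebra hB
  let φG := (hopfSpec (CommRingCat.of k)).map (CommHopfAlgCat.ofHom (Groth.L25.HopfSub.inclBialg hB)).op
  have hs : sub B = φG.hom.hom := Over.OverMorphism.ext rfl
  haveI hsm : IsMonHom (sub B) := hs ▸ φG.hom.isMonHom_hom
  haveI hf : IsMonHom (r ≫ sub B) := inferInstance
  haveI : Algebra.FiniteType k B := B.fg_iff_finiteType.1 hfg
  haveI hlft : LocallyOfFiniteType (specOf k B).hom :=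
    locallyOfFiniteType_specOverSpec (R := CommRingCat.of k) (A := CommRingCat.of B)
  obtain ⟨C, gC, p, i, _, _, hpi, _, _, _, _⟩ := AbelianGrp.exists_image (r ≫ sub B)
  haveI : IsAffine (specOf k B).left := inferInstanceAs (IsAffine (Spec (CommRingCat.of B)))
  haveI : IsIso i.left := by
    refine IsClosedImmersion.isIso_of_injective_of_isAffine ?_
    have e : i.left.appTop ≫ p.left.appTop = (sub B).left.appTop ≫ r.left.appTop := by
      rw [← Scheme.Hom.comp_appTop, ← Scheme.Hom.comp_appTop, ← Over.comp_left, hpi, Over.comp_left]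
    have h1 : Function.Injective ((sub B).left.appTop ≫ r.left.appTop) :=
      ((asIso r.left.appTop).commRingCatIsoToRingEquiv.injective).comp
        (injective_appTop_specMap _ Subtype.val_injective)
    rw [← e] at h1
    exact Function.Injective.of_comp (f := ⇑p.left.appTop.hom) h1
  refine ⟨hf, hlft, ?_, ?_, ?_⟩ <;> rw [← hpi, Over.comp_left] <;> infer_instance

include r in
/-- The Hopf algebra of the hull is finitely generated. -/
theorem fg_top : (⊤ : Subalgebra k H).FG := by
  classical
  haveI : CompactSpace G.left := compactSpace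
  haveI : IsLocallyNoetherian G.left := LocallyOfFiniteType.isLocallyNoetherian G.hom
  let 𝒰 := G.left.affineCover.finiteSubcover
  let U : 𝒰.I₀ → G.left.affineOpens := fun i => ⟨(𝒰.f i).opensRange, isAffineOpen_opensRange (𝒰.f i)⟩
  haveI : ∀ i, IsNoetherianRing Γ(G.left, (U i).1) := fun i => IsLocallyNoetherian.component_noetherian (U i)
  let T := {B : Subalgebra k H // B.FG ∧ SGA3.IsHopfSubalgebra k H B}
  let K : T → G.left.IdealSheafData := fun B =>
    letI := Groth.L25.HopfSub.hopfAlgebra B.2.2
    (pullback.fst (r ≫ sub B.1) η[specOf k B.1]).left.ker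
  let F : T → ∀ i, (Ideal Γ(G.left, (U i).1))ᵒᵈ := fun B i => OrderDual.toDual ((K B).ideal (U i))
  haveI : WellFoundedLT (∀ i, (Ideal Γ(G.left, (U i).1))ᵒᵈ) := inferInstance
  obtain ⟨B₀, -, hB₀, hB₀'⟩ := Groth.L25.HopfSub.exists_fg k H ∅
  obtain ⟨_, ⟨B, rfl⟩, hmin⟩ := (wellFounded_lt (α := ∀ i, (Ideal Γ(G.left, (U i).1))ᵒᵈ)).has_min (Set.range F)
    ⟨_, ⟨B₀, hB₀, hB₀'⟩, rfl⟩
  suffices h : ∀ B' : T, B.1 ≤ B'.1 → B'.1 ≤ B.1 by
    refine (eq_top_iff.2 fun x _ => ?_ : B.1 = ⊤) ▸ B.2.1
    obtain ⟨s, hs⟩ := B.2.1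
    obtain ⟨B', h1, h2, h3⟩ := Groth.L25.HopfSub.exists_fg k H (insert x s)
    have hle : B.1 ≤ B' := by
      rw [← hs]
      exact Algebra.adjoin_le fun y hy => h1 (Finset.mem_insert_of_mem hy)
    exact h ⟨B', h2, h3⟩ hle (h1 (Finset.mem_insert_self x s))
  rintro ⟨B', hfg', hB'⟩ hle
  obtain ⟨B, hfg, hB⟩ := B
  letI := Groth.L25.HopfSub.hopfAlgebra hB
  letI := Groth.L25.HopfSub.hopfAlgebra hB'
  obtain ⟨_, _, _, _, _⟩ := stage_props r B hfg hB
  obtain ⟨_, _, _, _, _⟩ := stage_props r B' hfg' hB'
  let f := r ≫ sub B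
  let f' := r ≫ sub B'
  have hff : f' ≫ incl hle = f := by simp only [f, f', Category.assoc, sub_incl]
  haveI : Epi f' := GQuot.epi_of_cover f'
  haveI hi : IsMonHom (incl hle) := by
    obtain ⟨_, _, _⟩ := GQuot.cover_tensor₂ f'
    haveI : Epi (f' ⊗ₘ f') := GQuot.epi_of_cover _
    refine ⟨?_, ?_⟩
    · rw [← IsMonHom.one_hom (f := f'), Category.assoc, hff, IsMonHom.one_hom]
    · rw [← cancel_epi (f' ⊗ₘ f'), ← IsMonHom.mul_hom_assoc, hff, IsMonHom.mul_hom, tensorHom_comp_tensorHom_assoc,
        hff]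
  let j := pullback.fst f η[specOf k B]
  let j' := pullback.fst f' η[specOf k B']
  let z : pullback f' η[specOf k B'] ⟶ pullback f η[specOf k B] :=
    pullback.lift j' (toUnit _) (by
      rw [← hff, reassoc_of% (pullback.condition (f := f') (g := η[specOf k B'])), IsMonHom.one_hom]
      congr 1
      exact toUnit_unique _ _)
  have hz : z ≫ j = j' := pullback.lift_fst _ _ _
  have hle' : j.left.ker ≤ j'.left.ker := by
    rw [← hz, Over.comp_left]
    exact Scheme.Hom.le_ker_comp _ _
  have hF : ∀ i, j.left.ker.ideal (U i) = j'.left.ker.ideal (U i) := fun i => by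
    have h1 : F ⟨B', hfg', hB'⟩ ≤ F ⟨B, hfg, hB⟩ := fun i => hle' (U i)
    exact congrArg OrderDual.ofDual
      (congrFun ((h1.eq_or_lt.resolve_right (hmin _ ⟨_, rfl⟩)).symm) i)
  have hker : j.left.ker = j'.left.ker :=
    Scheme.IdealSheafData.ext_of_iSup_eq_top U 𝒰.iSup_opensRange hF
  haveI : IsClosedImmersion j'.left :=
    MorphismProperty.of_isPullback (P := @IsClosedImmersion)
      ((IsPullback.of_hasPullback f' η[specOf k B']).map (Over.forget _)).flip (AbelianGrp.isClosedImmersion_one _)
  haveI : Mono (incl hle) := NormalQuot.mono_of_desc f' (incl hle) j'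
    (by
      rw [pullback.condition, Hom.one_def]
      congr 1
      exact toUnit_unique _ _)
    fun {T} a ha => by
      obtain ⟨w, hw⟩ : ∃ w : T ⟶ pullback f η[specOf k B], w ≫ j = a :=
        ⟨pullback.lift a (toUnit T) (by rw [← hff, ha, Hom.one_def]), pullback.lift_fst _ _ _⟩
      refine ⟨Over.homMk (w.left ≫ IsClosedImmersion.lift j'.left j.left hker.ge) ?_, Over.OverMorphism.ext ?_⟩
      · rw [← Over.w j', ← Category.assoc, Category.assoc w.left, IsClosedImmersion.lift_fac, ← Over.comp_left, hw,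
          Over.w a]
      · show (w.left ≫ _) ≫ j'.left = a.left
        rw [Category.assoc, IsClosedImmersion.lift_fac, ← Over.comp_left, hw]
  haveI : QuasiCompact (specOf k B').hom :=
    inferInstanceAs (QuasiCompact (Spec.map (CommRingCat.ofHom (algebraMap k B'))))
  haveI := AbelianGrp.quasiCompact_left (incl hle)
  haveI : IsClosedImmersion (incl hle).left := MonoClosed.isClosedImmersion_of_field _
  haveI : IsAffine (specOf k B).left := inferInstanceAs (IsAffine (Spec (CommRingCat.of B)))
  haveI hiso : IsIso (incl hle).left := IsClosedImmersion.isIso_of_injective_of_isAffine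
    (injective_appTop_specMap _ (Subalgebra.inclusion_injective hle))
  have hiso' : IsIso (Spec.map (CommRingCat.ofHom (Subalgebra.inclusion hle).toRingHom)) := hiso
  have hbij : Function.Bijective (Subalgebra.inclusion hle) := by
    haveI : IsIso (CommRingCat.ofHom (Subalgebra.inclusion hle).toRingHom) := by
      obtain ⟨g, hg1, hg2⟩ := hiso'
      obtain ⟨g', rfl⟩ := Spec.map_surjective g
      exact ⟨g', Spec.map_injective (by rw [Spec.map_comp, hg2, Spec.map_id]),
        Spec.map_injective (by rw [Spec.map_comp, hg1, Spec.map_id])⟩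
    exact ConcreteCategory.bijective_of_isIso (CommRingCat.ofHom (Subalgebra.inclusion hle).toRingHom)
  intro x hx
  obtain ⟨y, hy⟩ := hbij.2 ⟨x, hx⟩
  have e : (y : H) = x := congrArg Subtype.val hy
  show x ∈ B
  exact e ▸ y.2

end Stage

/-- The affine hull of an algebraic group is algebraic and the canonical morphism is faithfully flat. -/
theorem hull_props [CompactSpace G.left] [QuasiSeparatedSpace G.left] :
    LocallyOfFiniteType (hull G).hom ∧ Surjective (rho G).left ∧ Flat (rho G).left ∧
      LocallyOfFinitePresentation (rho G).left := by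
  obtain ⟨H₀, ⟨eG⟩⟩ := (essImage_hopfSpec (G := Grp.mk (hull G))).mpr (inferInstanceAs (IsAffine (hull G).left))
  let H := H₀.unop
  let φ : specOf k H ⟶ hull G := eG.hom.hom.hom
  let ψ : hull G ⟶ specOf k H := eG.inv.hom.hom
  have h1 : φ ≫ ψ = 𝟙 _ := congrArg (fun f => f.hom.hom) eG.hom_inv_id
  have h2 : ψ ≫ φ = 𝟙 (hull G) := congrArg (fun f => f.hom.hom) eG.inv_hom_id
  haveI : IsMonHom φ := eG.hom.hom.isMonHom_hom
  haveI : IsMonHom ψ := eG.inv.hom.isMonHom_hom
  haveI : IsIso φ := ⟨ψ, h1, h2⟩
  haveI : IsIso ψ := ⟨φ, h2, h1⟩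
  haveI : IsIso ψ.left := inferInstanceAs (IsIso ((Over.forget _).map ψ))
  haveI : IsIso φ.left := inferInstanceAs (IsIso ((Over.forget _).map φ))
  let r : G ⟶ specOf k H := rho G ≫ ψ
  haveI : IsMonHom r := inferInstanceAs (IsMonHom (rho G ≫ ψ))
  haveI : IsIso r.left.appTop := by
    haveI h : IsIso (ψ.left.appTop) := inferInstanceAs (IsIso (ψ.left.app ⊤))
    haveI h' : IsIso (rho G).left.appTop := inferInstance
    rw [show r.left = (rho G).left ≫ ψ.left from rfl, Scheme.Hom.comp_appTop]
    exact IsIso.comp_isIso' h h'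
  have hfg := fg_top r
  have hB : SGA3.IsHopfSubalgebra k H ⊤ := by
    obtain ⟨B, h1, h2, h3⟩ := Groth.L25.HopfSub.exists_fg k H hfg.choose
    have : B = ⊤ := top_unique (hfg.choose_spec.symm.le.trans (Algebra.adjoin_le h1))
    exact this ▸ h3
  letI := Groth.L25.HopfSub.hopfAlgebra hB
  obtain ⟨_, hl, hs, hf, hp⟩ := stage_props r ⊤ hfg hB
  have hiso : IsIso (sub (⊤ : Subalgebra k H)).left := by
    have e : CommRingCat.ofHom (⊤ : Subalgebra k H).val.toRingHom =
        (RingEquiv.toCommRingCatIso (Subalgebra.topEquiv : (⊤ : Subalgebra k H) ≃ₐ[k] H).toRingEquiv).hom := rfl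
    show IsIso (Spec.map _)
    rw [e]
    infer_instance
  haveI := hiso
  have e1 : (r ≫ sub (⊤ : Subalgebra k H)).left = (rho G).left ≫ (ψ.left ≫ (sub (⊤ : Subalgebra k H)).left) := by
    simp [r]
  rw [e1] at hs hf hp
  refine ⟨?_, ?_, ?_, ?_⟩
  · have e2 : (hull G).hom = (ψ.left ≫ (sub (⊤ : Subalgebra k H)).left) ≫ (specOf k (⊤ : Subalgebra k H)).hom := by
      rw [Category.assoc, Over.w (sub (⊤ : Subalgebra k H)), Over.w ψ]
    rw [e2]
    haveI := hl
    infer_instance
  · exact (MorphismProperty.cancel_right_of_respectsIso (P := @Surjective) _ _).1 hs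
  · exact (MorphismProperty.cancel_right_of_respectsIso (P := @Flat) _ _).1 hf
  · exact (MorphismProperty.cancel_right_of_respectsIso (P := @LocallyOfFinitePresentation) _ _).1 hp

end Groth.L08.AffHull
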