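import Groth.Agent.L08.AffHull.AntiAffine
import Groth.Prelude.Def_Red

/-!
# Criteria for anti-affineness
-/

set_option autoImplicit false
set_option backward.isDefEq.respectTransparency.types false
set_option linter.style.haveILetI false

universe u

open CategoryTheory CategoryTheory.Limits MonoidalCategory CartesianMonoidalCategory MonObj AlgebraicGeometry

noncomputable section

namespace Groth.L08.AffHull

variable {k : Type u} [Field k]

theorem bijective_iff_isIso (X : Over (Spec (CommRingCat.of k))) :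
    Function.Bijective ((Scheme.ΓSpecIso (CommRingCat.of k)).inv ≫ X.hom.appTop).hom ↔ IsIso X.hom.appTop := by
  refine Iff.trans (ConcreteCategory.isIso_iff_bijective _).symm ?_
  exact ⟨fun h => IsIso.of_isIso_comp_left (Scheme.ΓSpecIso (CommRingCat.of k)).inv X.hom.appTop,
    fun h => inferInstance⟩

/-- Constant functions from a cover. -/
theorem isIso_appTop_of_cover {G X : Over (Spec (CommRingCat.of k))} (q : G ⟶ X) [Epi q.left]
    (z : 𝟙_ (Over (Spec (CommRingCat.of k))) ⟶ X) (hO : IsIso G.hom.appTop) : IsIso X.hom.appTop := by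
  haveI := hO
  let w : Spec (CommRingCat.of k) ⟶ Spec Γ(X.left, ⊤) :=
    (Spec (CommRingCat.of k)).toSpecΓ ≫ inv (Spec.map G.hom.appTop) ≫ Spec.map q.left.appTop
  have hw : X.left.toSpecΓ = X.hom ≫ w := by
    rw [← cancel_epi q.left, Scheme.toSpecΓ_naturality, ← Category.assoc q.left, Over.w q]
    simp only [w]
    rw [Scheme.toSpecΓ_naturality_assoc, IsIso.hom_inv_id_assoc]
  have h1 := congrArg Scheme.Hom.appTop hw
  rw [Scheme.toSpecΓ_appTop, Scheme.Hom.comp_appTop] at h1
  have hl : IsSplitEpi X.hom.appTop := ⟨⟨⟨(Scheme.ΓSpecIso Γ(X.left, ⊤)).inv ≫ w.appTop, by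
    rw [Category.assoc, ← h1, Iso.inv_hom_id]⟩⟩⟩
  have hm : IsSplitMono X.hom.appTop := ⟨⟨⟨z.left.appTop, by
    rw [← Scheme.Hom.comp_appTop, Over.w z]
    exact Scheme.Hom.id_appTop⟩⟩⟩
  exact isIso_of_mono_of_isSplitEpi _

variable {G : Over (Spec (CommRingCat.of k))} [GrpObj G] [CompactSpace G.left] [QuasiSeparatedSpace G.left]

theorem isIso_appTop_of_rho_eq_one (h : rho G = 1) : IsIso G.hom.appTop := by
  have hid : 𝟙 (hull G) = toUnit (hull G) ≫ η[hull G] := by
    refine ext_one G ?_
    rw [Category.comp_id, ← Category.assoc, toUnit_unique (rho G ≫ toUnit (hull G)) (toUnit G), h, Hom.one_def]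
  haveI : IsIso (toUnit (hull G)) := ⟨η[hull G], hid.symm, toUnit_unique _ _⟩
  haveI hh : IsIso (hull G).hom := by
    have e : (toUnit (hull G)).left = (hull G).hom :=
      (Category.comp_id _).symm.trans (Over.w (toUnit (hull G)))
    exact e ▸ inferInstanceAs (IsIso ((Over.forget _).map (toUnit (hull G))))
  haveI : IsIso (Spec.map G.hom.appTop) :=
    @IsIso.of_isIso_comp_right _ _ _ _ _ (Spec.map G.hom.appTop) (Spec (CommRingCat.of k)).isoSpec.inv _ hh
  obtain ⟨g', hg1, hg2⟩ := this
  obtain ⟨g'', rfl⟩ := Spec.map_surjective g'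
  exact ⟨g'', Spec.map_injective (by rw [Spec.map_comp, hg2, Spec.map_id]),
    Spec.map_injective (by rw [Spec.map_comp, hg1, Spec.map_id])⟩

theorem rho_eq_one [LocallyOfFiniteType G.hom] [QuasiCompact G.hom] (hO : IsIso G.hom.appTop) : rho G = 1 :=
  hom_eq_one hO (rho G)

/-- The anti-affine part: kernel of the morphism to the affine hull. -/
theorem exists_antiAffinePart (G : Over (Spec (CommRingCat.of k))) [GrpObj G] [LocallyOfFiniteType G.hom]
    [QuasiCompact G.hom] :
    ∃ (K : Over (Spec (CommRingCat.of k))) (_ : GrpObj K) (i : K ⟶ G), IsMonHom i ∧ IsClosedImmersion i.left ∧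
      IsIso K.hom.appTop ∧ (IsIso K.hom → IsAffine G.left) := by
  haveI := compactSpace (G := G)
  haveI := quasiSeparatedSpace (G := G)
  obtain ⟨K, gK, i, _, _, -, sq⟩ := AbelianGrp.exists_kernel (rho G)
  refine ⟨K, gK, i, inferInstance, inferInstance, isIso_appTop_kernel i sq, fun hK => ?_⟩
  have hi : i = 1 := by
    haveI : IsIso (toUnit K).left := by
      have e : (toUnit K).left = K.hom := (Category.comp_id _).symm.trans (Over.w (toUnit K))
      rw [e]; exact hK
    haveI : IsIso (toUnit K) := by
      haveI : IsIso ((Over.forget _).map (toUnit K)) := inferInstanceAs (IsIso (toUnit K).left)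
      exact isIso_of_reflects_iso (toUnit K) (Over.forget _)
    have h2 : toUnit K ≫ η[K] = 𝟙 _ := by
      rw [← cancel_mono (toUnit K), Category.assoc, toUnit_unique (η[K] ≫ toUnit K) (𝟙 _), Category.comp_id,
        Category.id_comp]
    rw [← Category.id_comp i, ← h2, Category.assoc, IsMonHom.one_hom, Hom.one_def]
  haveI : Mono (rho G) := AbelianGrp.mono_of_kernel (rho G) i sq hi
  obtain ⟨hl, -, -, -⟩ := hull_props (G := G)
  haveI := AbelianGrp.quasiCompact_left (rho G)
  haveI : IsClosedImmersion (rho G).left := MonoClosed.isClosedImmersion_of_field (rho G)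
  exact isAffine_of_isAffineHom (rho G).left

end Groth.L08.AffHull
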