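import Groth.Agent.L22.AffineDescent
import Groth.Agent.L25.Translate
import Groth.Agent.L25.Actions
import Mathlib.CategoryTheory.Monoidal.Cartesian.Grp
import Mathlib.CategoryTheory.Monoidal.Cartesian.Over

/-!
# The affine hull of a qcqs group scheme over a field
-/

set_option autoImplicit false
set_option backward.isDefEq.respectTransparency.types false
set_option linter.style.haveILetI false

universe u

open CategoryTheory CategoryTheory.Limits MonoidalCategory CartesianMonoidalCategory MonObj AlgebraicGeometry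

noncomputable section

namespace Groth.L08.AffHull

theorem desc_of_isIso_appTop {W V Y : Scheme.{u}} (c : W ⟶ V) [IsAffine V] [IsAffine Y] [IsIso c.appTop]
    (f : W ⟶ Y) : ∃ h : V ⟶ Y, c ≫ h = f := by
  refine ⟨V.isoSpec.hom ≫ Spec.map (f.appTop ≫ inv c.appTop) ≫ Y.isoSpec.inv, ?_⟩
  rw [← cancel_mono Y.isoSpec.hom]
  simp only [Category.assoc, Iso.inv_hom_id, Category.comp_id, Scheme.isoSpec, asIso_hom]
  rw [Scheme.toSpecΓ_naturality_assoc, show (asIso Y.toSpecΓ).inv ≫ Y.toSpecΓ = 𝟙 _ from (asIso _).inv_hom_id,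
    Category.comp_id, ← Spec.map_comp, Category.assoc, IsIso.inv_hom_id, Category.comp_id,
    Scheme.toSpecΓ_naturality]

theorem ext_of_isIso_appTop {W V Y : Scheme.{u}} (c : W ⟶ V) [IsAffine Y] [IsIso c.appTop] {h h' : V ⟶ Y}
    (e : c ≫ h = c ≫ h') : h = h' := by
  refine ext_of_isAffine ?_
  rw [← cancel_mono c.appTop]
  simpa only [Scheme.Hom.comp_appTop] using congrArg Scheme.Hom.appTop e

variable {k : Type u} [Field k] (G : Over (Spec (CommRingCat.of k)))

/-- `Spec O(G)` over `k`. -/
def hull : Over (Spec (CommRingCat.of k)) :=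
  Over.mk (Spec.map G.hom.appTop ≫ (Spec (CommRingCat.of k)).isoSpec.inv)

instance : IsAffine (hull G).left := inferInstanceAs (IsAffine (Spec Γ(G.left, ⊤)))

/-- The canonical morphism to the affine hull. -/
def rho : G ⟶ hull G := Over.homMk G.left.toSpecΓ (by
  show G.left.toSpecΓ ≫ Spec.map G.hom.appTop ≫ (Spec (CommRingCat.of k)).isoSpec.inv = G.hom
  rw [← Scheme.toSpecΓ_naturality_assoc]
  simp [Scheme.isoSpec])

theorem rho_left : (rho G).left = G.left.toSpecΓ := rfl

instance : IsIso (rho G).left.appTop := by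
  have e : IsIso (G.left.toSpecΓ).appTop := by rw [Scheme.toSpecΓ_appTop]; infer_instance
  exact e

variable [CompactSpace G.left] [QuasiSeparatedSpace G.left]

/-- Base change of the canonical morphism along an affine scheme is an isomorphism on global functions. -/
theorem isIso_appTop_whiskerLeft (X : Over (Spec (CommRingCat.of k))) [IsAffine X.left] :
    IsIso (X ◁ rho G).left.appTop := by
  have h1 : IsPullback (snd X G).left (fst X G).left G.hom X.hom := (IsPullback.of_hasPullback X.hom G.hom).flip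
  have h2 : IsPullback (snd X (hull G)).left (fst X (hull G)).left (hull G).hom X.hom :=
    (IsPullback.of_hasPullback X.hom (hull G).hom).flip
  have p1 := Groth.L22.AffDesc.isPushout_appTop h1
  have p2 := Groth.L22.AffDesc.isPushout_appTop h2
  have e : G.hom.appTop = (hull G).hom.appTop ≫ (rho G).left.appTop := by
    rw [← Scheme.Hom.comp_appTop, Over.w (rho G)]
  have p1' : IsPushout (hull G).hom.appTop X.hom.appTop ((rho G).left.appTop ≫ (snd X G).left.appTop)
      (fst X G).left.appTop :=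
    p1.of_iso (Iso.refl _) (asIso (rho G).left.appTop).symm (Iso.refl _) (Iso.refl _)
      (by simp [e]) (by simp) (by simp) (by simp)
  have e1 : (X ◁ rho G).left ≫ (snd X (hull G)).left = (snd X G).left ≫ (rho G).left :=
    congrArg CommaMorphism.left (whiskerLeft_snd X (rho G))
  have e2 : (X ◁ rho G).left ≫ (fst X (hull G)).left = (fst X G).left :=
    congrArg CommaMorphism.left (whiskerLeft_fst X (rho G))
  have e3 : (X ◁ rho G).left.appTop = (p2.isoIsPushout _ _ p1').hom := by
    apply p2.hom_ext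
    · rw [IsPushout.inl_isoIsPushout_hom, ← Scheme.Hom.comp_appTop, e1, Scheme.Hom.comp_appTop]
    · rw [IsPushout.inr_isoIsPushout_hom, ← Scheme.Hom.comp_appTop, e2]
  rw [e3]
  infer_instance

theorem ext_affine {X Y : Over (Spec (CommRingCat.of k))} [IsAffine X.left] [IsAffine Y.left]
    {h h' : X ⊗ hull G ⟶ Y} (e : (X ◁ rho G) ≫ h = (X ◁ rho G) ≫ h') : h = h' := by
  haveI := isIso_appTop_whiskerLeft G X
  exact Over.OverMorphism.ext (ext_of_isIso_appTop (X ◁ rho G).left (congrArg CommaMorphism.left e))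

theorem desc_affine {X Y : Over (Spec (CommRingCat.of k))} [IsAffine X.left] [IsAffine Y.left]
    (f : X ⊗ G ⟶ Y) : ∃ h : X ⊗ hull G ⟶ Y, (X ◁ rho G) ≫ h = f := by
  haveI := isIso_appTop_whiskerLeft G X
  haveI : IsAffine (X ⊗ hull G).left := inferInstanceAs (IsAffine (pullback X.hom (hull G).hom))
  obtain ⟨h, hh⟩ := desc_of_isIso_appTop (X ◁ rho G).left f.left
  have hw : h ≫ Y.hom = (X ⊗ hull G).hom := by
    refine ext_of_isIso_appTop (X ◁ rho G).left ?_
    rw [reassoc_of% hh, Over.w f, Over.w (X ◁ rho G)]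
  exact ⟨Over.homMk h hw, Over.OverMorphism.ext hh⟩

/-- The affine pieces of a scheme over `k`. -/
abbrev piece (X : Over (Spec (CommRingCat.of k))) (i : X.left.affineCover.I₀) :
    Over (Spec (CommRingCat.of k)) :=
  Over.mk (X.left.affineCover.f i ≫ X.hom)

/-- The inclusion of an affine piece. -/
abbrev pieceι (X : Over (Spec (CommRingCat.of k))) (i : X.left.affineCover.I₀) : piece X i ⟶ X :=
  Over.homMk (X.left.affineCover.f i)

/-- The cover of a product by products with affine pieces. -/
def prodCover (X A : Over (Spec (CommRingCat.of k))) : (X ⊗ A).left.OpenCover :=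
  Scheme.Cover.mkOfCovers X.left.affineCover.I₀ (fun i => (piece X i ⊗ A).left) (fun i => (pieceι X i ▷ A).left)
    (fun x => by
      obtain ⟨y, hy⟩ := X.left.affineCover.covers ((fst X A).left x)
      refine ⟨X.left.affineCover.idx ((fst X A).left x), ?_⟩
      show x ∈ Set.range _
      rw [← tensorHom_id, Groth.L25.Translate.range_tensorHom]
      exact ⟨⟨y, hy⟩, ⟨(snd X A).left x, rfl⟩⟩)
    (fun i => Groth.L25.Actions.of_whiskerRight @IsOpenImmersion (pieceι X i) A
      (inferInstanceAs (IsOpenImmersion (X.left.affineCover.f i))))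

theorem ext_left {X Y : Over (Spec (CommRingCat.of k))} [IsAffine Y.left]
    {h h' : X ⊗ hull G ⟶ Y} (e : (X ◁ rho G) ≫ h = (X ◁ rho G) ≫ h') : h = h' := by
  refine Over.OverMorphism.ext (Scheme.Cover.hom_ext (prodCover X (hull G)) _ _ fun i => ?_)
  have : (pieceι X i ▷ hull G) ≫ h = (pieceι X i ▷ hull G) ≫ h' := by
    haveI : IsAffine (piece X i).left := inferInstanceAs (IsAffine (X.left.affineCover.X i))
    refine ext_affine G ?_
    show (piece X i ◁ rho G) ≫ _ = _
    exact (whisker_exchange_assoc (pieceι X i) (rho G) h).trans ((congrArg _ e).trans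
      (whisker_exchange_assoc (pieceι X i) (rho G) h').symm)
  exact congrArg CommaMorphism.left this

theorem desc_left {X Y : Over (Spec (CommRingCat.of k))} [IsAffine Y.left]
    (f : X ⊗ G ⟶ Y) : ∃ h : X ⊗ hull G ⟶ Y, (X ◁ rho G) ≫ h = f := by
  let A := hull G
  have hp : ∀ i, ∃ h : piece X i ⊗ A ⟶ Y, (piece X i ◁ rho G) ≫ h = (pieceι X i ▷ G) ≫ f := fun i => by
    haveI : IsAffine (piece X i).left := inferInstanceAs (IsAffine (X.left.affineCover.X i))
    exact desc_affine G _
  choose h hh using hp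
  let 𝒰 := prodCover X A
  have hglue : ∀ i j, pullback.fst (𝒰.f i) (𝒰.f j) ≫ (h i).left = pullback.snd (𝒰.f i) (𝒰.f j) ≫ (h j).left := by
    intro i j
    let P := pullback (pieceι X i) (pieceι X j)
    have hP : (pullback.fst (pieceι X i) (pieceι X j) ▷ A) ≫ h i =
        (pullback.snd (pieceι X i) (pieceι X j) ▷ A) ≫ h j := by
      refine ext_left G ?_
      rw [whisker_exchange_assoc, whisker_exchange_assoc, hh, hh, ← comp_whiskerRight_assoc,
        ← comp_whiskerRight_assoc, pullback.condition]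
    let Z : Over (Spec (CommRingCat.of k)) := Over.mk (pullback.fst (𝒰.f i) (𝒰.f j) ≫ (piece X i ⊗ A).hom)
    let a : Z ⟶ piece X i ⊗ A := Over.homMk (pullback.fst (𝒰.f i) (𝒰.f j))
    let b : Z ⟶ piece X j ⊗ A := Over.homMk (pullback.snd (𝒰.f i) (𝒰.f j)) (by
      show _ = pullback.fst (𝒰.f i) (𝒰.f j) ≫ (piece X i ⊗ A).hom
      refine (congrArg (_ ≫ ·) (Over.w (pieceι X j ▷ A)).symm).trans ?_
      refine Eq.trans ?_ (congrArg (_ ≫ ·) (Over.w (pieceι X i ▷ A)))
      exact (Category.assoc _ _ _).symm.trans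
        ((congrArg (· ≫ (X ⊗ A).hom) pullback.condition.symm).trans (Category.assoc _ _ _)))
    have hab : a ≫ (pieceι X i ▷ A) = b ≫ (pieceι X j ▷ A) := Over.OverMorphism.ext pullback.condition
    have h1 := hab =≫ fst X A
    have h2 := hab =≫ snd X A
    simp only [Category.assoc, whiskerRight_fst, whiskerRight_snd] at h1 h2
    let z : Z ⟶ P ⊗ A := CartesianMonoidalCategory.lift
      (pullback.lift (a ≫ fst _ _) (b ≫ fst _ _) (by rw [Category.assoc, Category.assoc]; exact h1)) (a ≫ snd _ _)
    have za : z ≫ (pullback.fst (pieceι X i) (pieceι X j) ▷ A) = a := by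
      refine CartesianMonoidalCategory.hom_ext _ _ ?_ ?_
      · rw [Category.assoc, whiskerRight_fst, ← Category.assoc]
        exact (congrArg (· ≫ pullback.fst _ _) (lift_fst _ _)).trans (pullback.lift_fst _ _ _)
      · rw [Category.assoc, whiskerRight_snd]
        exact lift_snd _ _
    have zb : z ≫ (pullback.snd (pieceι X i) (pieceι X j) ▷ A) = b := by
      refine CartesianMonoidalCategory.hom_ext _ _ ?_ ?_
      · rw [Category.assoc, whiskerRight_fst, ← Category.assoc]
        exact (congrArg (· ≫ pullback.snd _ _) (lift_fst _ _)).trans (pullback.lift_snd _ _ _)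
      · rw [Category.assoc, whiskerRight_snd]
        exact (lift_snd _ _).trans h2
    have := congrArg CommaMorphism.left (z ≫= hP)
    rw [reassoc_of% za, reassoc_of% zb] at this
    exact this
  let m := 𝒰.glueMorphisms (fun i => (h i).left) hglue
  have hw : m ≫ Y.hom = (X ⊗ A).hom := by
    refine Scheme.Cover.hom_ext 𝒰 _ _ fun i => ?_
    rw [Scheme.Cover.ι_glueMorphisms_assoc]
    exact (Over.w (h i)).trans (Over.w (pieceι X i ▷ A)).symm
  refine ⟨Over.homMk m hw, Over.OverMorphism.ext (Scheme.Cover.hom_ext (prodCover X G) _ _ fun i => ?_)⟩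
  have e1 : (pieceι X i ▷ G).left ≫ (X ◁ rho G).left = (piece X i ◁ rho G).left ≫ (pieceι X i ▷ A).left :=
    congrArg CommaMorphism.left (whisker_exchange (pieceι X i) (rho G)).symm
  show (pieceι X i ▷ G).left ≫ (X ◁ rho G).left ≫ m = (pieceι X i ▷ G).left ≫ f.left
  rw [reassoc_of% e1]
  refine (congrArg _ (Scheme.Cover.ι_glueMorphisms 𝒰 (fun i => (h i).left) hglue i)).trans ?_
  exact congrArg CommaMorphism.left (hh i)

theorem ext_right {X Y : Over (Spec (CommRingCat.of k))} [IsAffine Y.left]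
    {h h' : hull G ⊗ X ⟶ Y} (e : (rho G ▷ X) ≫ h = (rho G ▷ X) ≫ h') : h = h' := by
  rw [← cancel_epi (β_ X (hull G)).hom]
  refine ext_left G ?_
  rw [← Category.assoc, ← Category.assoc, BraidedCategory.braiding_naturality_right, Category.assoc,
    Category.assoc, e]

theorem desc_right {X Y : Over (Spec (CommRingCat.of k))} [IsAffine Y.left]
    (f : G ⊗ X ⟶ Y) : ∃ h : hull G ⊗ X ⟶ Y, (rho G ▷ X) ≫ h = f := by
  obtain ⟨h, hh⟩ := desc_left G ((β_ X G).hom ≫ f)
  refine ⟨(β_ X (hull G)).inv ≫ h, ?_⟩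
  rw [← cancel_epi (β_ X G).hom, ← BraidedCategory.braiding_naturality_right_assoc, Iso.hom_inv_id_assoc, hh]

theorem ext_one {Y : Over (Spec (CommRingCat.of k))} [IsAffine Y.left]
    {h h' : hull G ⟶ Y} (e : rho G ≫ h = rho G ≫ h') : h = h' :=
  Over.OverMorphism.ext (ext_of_isIso_appTop (rho G).left (congrArg CommaMorphism.left e))

theorem desc_one {Y : Over (Spec (CommRingCat.of k))} [IsAffine Y.left]
    (f : G ⟶ Y) : ∃ h : hull G ⟶ Y, rho G ≫ h = f := by
  obtain ⟨h, hh⟩ := desc_of_isIso_appTop (rho G).left f.left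
  have hw : h ≫ Y.hom = (hull G).hom := by
    refine ext_of_isIso_appTop (rho G).left ?_
    rw [reassoc_of% hh, Over.w f, Over.w (rho G)]
  exact ⟨Over.homMk h hw, Over.OverMorphism.ext hh⟩

theorem ext_two {Y : Over (Spec (CommRingCat.of k))} [IsAffine Y.left]
    {h h' : hull G ⊗ hull G ⟶ Y} (e : (rho G ⊗ₘ rho G) ≫ h = (rho G ⊗ₘ rho G) ≫ h') : h = h' := by
  rw [tensorHom_def, Category.assoc, Category.assoc] at e
  exact ext_left G (ext_right G (by
    rw [← whisker_exchange_assoc, ← whisker_exchange_assoc]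
    simpa only [whisker_exchange_assoc] using e))

theorem ext_mid {X Z Y : Over (Spec (CommRingCat.of k))} [IsAffine Y.left]
    {h h' : (X ⊗ hull G) ⊗ Z ⟶ Y} (e : ((X ◁ rho G) ▷ Z) ≫ h = ((X ◁ rho G) ▷ Z) ≫ h') : h = h' := by
  rw [whisker_assoc, Category.assoc, Category.assoc, Category.assoc, Category.assoc, cancel_epi] at e
  rw [← cancel_epi (α_ X (hull G) Z).inv]
  rw [← cancel_epi (X ◁ (β_ Z (hull G)).hom)]
  rw [← cancel_epi (α_ X Z (hull G)).hom]
  refine ext_left G ?_
  simp only [tensor_whiskerLeft, Category.assoc, Iso.inv_hom_id_assoc, ← MonoidalCategory.whiskerLeft_comp_assoc,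
    BraidedCategory.braiding_naturality_right]
  simp only [MonoidalCategory.whiskerLeft_comp, Category.assoc, e]

theorem ext_three {Y : Over (Spec (CommRingCat.of k))} [IsAffine Y.left]
    {h h' : (hull G ⊗ hull G) ⊗ hull G ⟶ Y}
    (e : ((rho G ⊗ₘ rho G) ⊗ₘ rho G) ≫ h = ((rho G ⊗ₘ rho G) ⊗ₘ rho G) ≫ h') : h = h' := by
  rw [tensorHom_def (rho G ⊗ₘ rho G), Category.assoc, Category.assoc, tensorHom_def,
    comp_whiskerRight, Category.assoc, Category.assoc, whiskerRight_tensor_symm] at e
  simp only [Category.assoc] at e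
  rw [cancel_epi] at e
  refine ext_left G (ext_mid G ?_)
  rw [← cancel_epi (α_ (hull G) G G).inv]
  exact ext_right G e

end Groth.L08.AffHull
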