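import Groth.Agent.L08.AffHull.Basic

/-!
# The affine hull of a group scheme is a group
-/

set_option autoImplicit false
set_option backward.isDefEq.respectTransparency.types false
set_option linter.style.haveILetI false

universe u

open CategoryTheory CategoryTheory.Limits MonoidalCategory CartesianMonoidalCategory MonObj AlgebraicGeometry

noncomputable section

namespace Groth.L08.AffHull

variable {k : Type u} [Field k] (G : Over (Spec (CommRingCat.of k))) [GrpObj G]
  [CompactSpace G.left] [QuasiSeparatedSpace G.left]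

/-- The multiplication of the hull. -/
theorem exists_mul : ∃ m : hull G ⊗ hull G ⟶ hull G, (rho G ⊗ₘ rho G) ≫ m = μ[G] ≫ rho G := by
  obtain ⟨a, ha⟩ := desc_left G (X := G) (μ[G] ≫ rho G)
  obtain ⟨m, hm⟩ := desc_right G a
  exact ⟨m, by rw [tensorHom_def', Category.assoc, hm, ha]⟩

/-- The inverse of the hull. -/
theorem exists_inv : ∃ n : hull G ⟶ hull G, rho G ≫ n = GrpObj.inv (X := G) ≫ rho G :=
  desc_one G _

instance grpObj : GrpObj (hull G) where
  one := η[G] ≫ rho G
  mul := (exists_mul G).choose
  inv := (exists_inv G).choose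
  one_mul := by
    refine ext_left G (X := 𝟙_ _) ?_
    have : (𝟙_ (Over (Spec (CommRingCat.of k))) ◁ rho G) ≫ ((η[G] ≫ rho G) ▷ hull G) =
        (η[G] ▷ G) ≫ (rho G ⊗ₘ rho G) := by
      rw [← tensorHom_id, ← id_tensorHom, ← tensorHom_id, tensorHom_comp_tensorHom, tensorHom_comp_tensorHom,
        Category.id_comp, Category.comp_id, Category.id_comp]
    rw [reassoc_of% this, (exists_mul G).choose_spec, MonObj.one_mul_assoc, leftUnitor_naturality]
  mul_one := by
    refine ext_right G (X := 𝟙_ _) ?_
    have : (rho G ▷ 𝟙_ (Over (Spec (CommRingCat.of k)))) ≫ (hull G ◁ (η[G] ≫ rho G)) =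
        (G ◁ η[G]) ≫ (rho G ⊗ₘ rho G) := by
      rw [← tensorHom_id, ← id_tensorHom, ← id_tensorHom, tensorHom_comp_tensorHom, tensorHom_comp_tensorHom,
        Category.id_comp, Category.comp_id, Category.id_comp]
    rw [reassoc_of% this, (exists_mul G).choose_spec, MonObj.mul_one_assoc, rightUnitor_naturality]
  mul_assoc := by
    refine ext_three G ?_
    have hm := (exists_mul G).choose_spec
    have l : ((rho G ⊗ₘ rho G) ⊗ₘ rho G) ≫ ((exists_mul G).choose ▷ hull G) = (μ[G] ▷ G) ≫ (rho G ⊗ₘ rho G) := by
      rw [← tensorHom_id, ← tensorHom_id, tensorHom_comp_tensorHom, tensorHom_comp_tensorHom, hm,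
        Category.id_comp, Category.comp_id]
    have r : (rho G ⊗ₘ (rho G ⊗ₘ rho G)) ≫ (hull G ◁ (exists_mul G).choose) = (G ◁ μ[G]) ≫ (rho G ⊗ₘ rho G) := by
      rw [← id_tensorHom, ← id_tensorHom, tensorHom_comp_tensorHom, tensorHom_comp_tensorHom, hm,
        Category.id_comp, Category.comp_id]
    rw [reassoc_of% l, hm, associator_naturality_assoc, reassoc_of% r, hm, MonObj.mul_assoc_assoc]
  left_inv := by
    refine ext_one G ?_
    rw [comp_lift_assoc, (exists_inv G).choose_spec, Category.comp_id,
      show CartesianMonoidalCategory.lift (GrpObj.inv (X := G) ≫ rho G) (rho G) =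
        CartesianMonoidalCategory.lift (GrpObj.inv (X := G)) (𝟙 G) ≫ (rho G ⊗ₘ rho G) by
        rw [lift_map, Category.id_comp], Category.assoc, (exists_mul G).choose_spec, GrpObj.left_inv_assoc,
      ← Category.assoc (rho G), comp_toUnit]
  right_inv := by
    refine ext_one G ?_
    rw [comp_lift_assoc, (exists_inv G).choose_spec, Category.comp_id,
      show CartesianMonoidalCategory.lift (rho G) (GrpObj.inv (X := G) ≫ rho G) =
        CartesianMonoidalCategory.lift (𝟙 G) (GrpObj.inv (X := G)) ≫ (rho G ⊗ₘ rho G) by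
        rw [lift_map, Category.id_comp], Category.assoc, (exists_mul G).choose_spec, GrpObj.right_inv_assoc,
      ← Category.assoc (rho G), comp_toUnit]

instance isMonHom_rho : IsMonHom (rho G) where
  one_hom := rfl
  mul_hom := (exists_mul G).choose_spec.symm

/-- A homomorphism to an affine group factors through the hull by a homomorphism. -/
theorem exists_hom {H : Over (Spec (CommRingCat.of k))} [GrpObj H] [IsAffine H.left] (f : G ⟶ H) [IsMonHom f] :
    ∃ g : hull G ⟶ H, IsMonHom g ∧ rho G ≫ g = f := by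
  obtain ⟨g, hg⟩ := desc_one G f
  refine ⟨g, ⟨?_, ?_⟩, hg⟩
  · show (η[G] ≫ rho G) ≫ g = η[H]
    rw [Category.assoc, hg, IsMonHom.one_hom]
  · refine ext_two G ?_
    rw [← IsMonHom.mul_hom_assoc, hg, IsMonHom.mul_hom, tensorHom_comp_tensorHom_assoc, hg]

end Groth.L08.AffHull
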